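import Mathlib
import Cfsg.Prelude.Def_SporadicB

set_option autoImplicit false
set_option maxRecDepth 100000

/-! Non-split double covers of `A_n`, `n ≤ 7`, have a single involution. -/

namespace CfsgLib.DoubleCover

open Equiv

/-- All involutions of a small alternating group are conjugate. -/
theorem isConj_of_orderOf_two {n : ℕ} (hn : n ≤ 7) (a b : alternatingGroup (Fin n))
    (ha : orderOf a = 2) (hb : orderOf b = 2) : IsConj a b := by
  have hct : ∀ c : alternatingGroup (Fin n), orderOf c = 2 →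
      (c : Perm (Fin n)).cycleType = Multiset.replicate 2 2 := by
    intro c hc
    have hc' : orderOf (c : Perm (Fin n)) = 2 := by rw [Subgroup.orderOf_coe, hc]
    obtain ⟨k, hk⟩ := Equiv.Perm.cycleType_prime_order (by rw [hc']; exact Nat.prime_two)
    rw [hc'] at hk
    have hsum := (c : Perm (Fin n)).sum_cycleType
    have hle := Finset.card_le_univ (c : Perm (Fin n)).support
    rw [hk, Multiset.sum_replicate, smul_eq_mul] at hsum
    rw [Fintype.card_fin] at hle
    have hs := Equiv.Perm.sign_of_cycleType (c : Perm (Fin n))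
    rw [Equiv.Perm.mem_alternatingGroup.1 c.2, hk, Multiset.sum_replicate,
      Multiset.card_replicate, smul_eq_mul] at hs
    have hk3 : k + 1 ≤ 3 := by omega
    have hk2 : k ≤ 2 := by omega
    interval_cases k
    · simp [pow_succ] at hs
    · exact hk
    · simp [pow_succ] at hs
  obtain ⟨g, hg⟩ := isConj_iff.1 ((Equiv.Perm.isConj_iff_cycleType_eq).2 ((hct a ha).trans (hct b hb).symm))
  rcases Int.units_eq_one_or (Equiv.Perm.sign g) with hs | hs
  · exact isConj_iff.2 ⟨⟨g, Equiv.Perm.mem_alternatingGroup.2 hs⟩, Subtype.ext hg⟩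
  · obtain ⟨c, hc⟩ : ∃ c, c ∈ (a : Perm (Fin n)).cycleFactorsFinset := by
      by_contra hne
      simp only [not_exists] at hne
      have h1 : (a : Perm (Fin n)).cycleFactorsFinset = ∅ := Finset.eq_empty_of_forall_notMem hne
      rw [Equiv.Perm.cycleFactorsFinset_eq_empty_iff] at h1
      have h2 := hct a ha
      rw [h1, Equiv.Perm.cycleType_one] at h2
      simp at h2
    have hcc := Equiv.Perm.mem_cycleFactorsFinset_iff.1 hc
    have hcard : c.support.card = 2 := by
      have : c.support.card ∈ (a : Perm (Fin n)).cycleType := by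
        rw [Equiv.Perm.cycleType_def]
        exact Multiset.mem_map.2 ⟨c, hc, rfl⟩
      rw [hct a ha] at this
      exact Multiset.eq_of_mem_replicate this
    have hcs : Equiv.Perm.sign c = -1 := by rw [hcc.1.sign, hcard]; decide
    have hcomm : Commute c (a : Perm (Fin n)) :=
      Equiv.Perm.self_mem_cycle_factors_commute hc
    refine isConj_iff.2 ⟨⟨g * c, Equiv.Perm.mem_alternatingGroup.2 (by rw [map_mul, hs, hcs]; decide)⟩,
      Subtype.ext ?_⟩
    show g * c * (a : Perm (Fin n)) * (g * c)⁻¹ = b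
    rw [mul_assoc g c, hcomm.eq, mul_inv_rev, ← hg]
    group

/-- `x` squared decides everything: a Sylow 2-subgroup of `A_n` with at most one non-trivial square. -/
def GoodTwoSubgroup {A : Type*} [Group A] (D : Subgroup A) : Prop :=
  (∃ k, Nat.card D = 2 ^ k) ∧ Odd D.index ∧ (∀ a ∈ D, a ^ 4 = 1) ∧
    ∀ a ∈ D, ∀ b ∈ D, a ^ 2 ≠ 1 → b ^ 2 ≠ 1 → a = b ∨ a = b⁻¹

/-- A finite set containing one and closed under products, as a subgroup. -/
def finsetSubgroup {A : Type*} [Group A] [Finite A] [DecidableEq A] (S : Finset A) (h1 : 1 ∈ S)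
    (hmul : ∀ a ∈ S, ∀ b ∈ S, a * b ∈ S) : Subgroup A where
  carrier := S
  one_mem' := h1
  mul_mem' {a b} ha hb := hmul a ha b hb
  inv_mem' {a} ha := by
    have hp : ∀ k : ℕ, a ^ k ∈ S := fun k => by
      induction k with
      | zero => simpa using h1
      | succ k ih => rw [pow_succ]; exact hmul _ ih _ ha
    have : a⁻¹ = a ^ (orderOf a - 1) := by
      apply inv_eq_of_mul_eq_one_right
      rw [← pow_succ', Nat.sub_add_cancel (orderOf_pos a)]
      exact pow_orderOf_eq_one a
    exact this ▸ hp _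

theorem good_of_list {n : ℕ} (L : List (Perm (Fin n))) (m : ℕ)
    (hcard : L.toFinset.card = 2 ^ m)
    (hn : (n.factorial / 2 / 2 ^ m) % 2 = 1) (hn2 : 2 ≤ n)
    (hs : ∀ a ∈ L, Equiv.Perm.sign a = 1) (h1 : 1 ∈ L) (hmul : ∀ a ∈ L, ∀ b ∈ L, a * b ∈ L)
    (h4 : ∀ a ∈ L, a * a * (a * a) = 1)
    (hsq : ∀ a ∈ L, ∀ b ∈ L, a * a ≠ 1 → b * b ≠ 1 → a = b ∨ a * b = 1) :
    ∃ D : Subgroup (alternatingGroup (Fin n)), GoodTwoSubgroup D := by
  let D' : Subgroup (Perm (Fin n)) := finsetSubgroup L.toFinset (List.mem_toFinset.2 h1)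
    fun a ha b hb => List.mem_toFinset.2 (hmul a (List.mem_toFinset.1 ha) b (List.mem_toFinset.1 hb))
  have hmem : ∀ a, a ∈ D' ↔ a ∈ L := fun a => List.mem_toFinset (l := L) (a := a)
  have hle : D' ≤ alternatingGroup (Fin n) :=
    fun a ha => Equiv.Perm.mem_alternatingGroup.2 (hs a ((hmem a).1 ha))
  let D := D'.subgroupOf (alternatingGroup (Fin n))
  have hD : Nat.card D = 2 ^ m := by
    rw [Nat.card_congr (Subgroup.subgroupOfEquivOfLe hle).toEquiv]
    show Nat.card (↥(L.toFinset)) = _
    rw [Nat.card_eq_finsetCard, hcard]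
  haveI : Nontrivial (Fin n) := Fin.nontrivial_iff_two_le.2 hn2
  have hA : Nat.card (alternatingGroup (Fin n)) = n.factorial / 2 := by
    rw [nat_card_alternatingGroup, Nat.card_fin]
  refine ⟨D, ⟨m, hD⟩, ?_, fun a ha => ?_, fun a ha b hb h h' => ?_⟩
  · have hi := D.card_mul_index
    rw [hD, hA] at hi
    rw [Nat.odd_iff, ← hn, ← hi, Nat.mul_div_cancel_left _ (by positivity)]
  · apply Subtype.ext
    have := h4 _ ((hmem _).1 (Subgroup.mem_subgroupOf.1 ha))
    simp only [SubmonoidClass.coe_pow, OneMemClass.coe_one]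
    rw [show (4 : ℕ) = 2 * 2 from rfl, pow_mul, pow_two, pow_two, this]
  · have := hsq _ ((hmem _).1 (Subgroup.mem_subgroupOf.1 ha)) _ ((hmem _).1 (Subgroup.mem_subgroupOf.1 hb))
      (fun e => h (Subtype.ext (by simpa [pow_two] using e)))
      (fun e => h' (Subtype.ext (by simpa [pow_two] using e)))
    rcases this with e | e
    · exact Or.inl (Subtype.ext e)
    · exact Or.inr (eq_inv_of_mul_eq_one_left (Subtype.ext e))

theorem good_of_dihedral {n : ℕ} (h6 : n = 6 ∨ n = 7) (c s : Perm (Fin n))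
    (hc : c * c * (c * c) = 1) (hc2 : c * c ≠ 1) (hs : s * s = 1) (hsc : s * c * s * c = 1)
    (hsne : s ≠ 1 ∧ s ≠ c * c) (hsg : Equiv.Perm.sign c = 1 ∧ Equiv.Perm.sign s = 1) :
    ∃ D : Subgroup (alternatingGroup (Fin n)), GoodTwoSubgroup D := by
  have hp : c ^ 4 = 1 := by rw [show (4 : ℕ) = 2 * 2 from rfl, pow_mul, pow_two, pow_two, hc]
  have hflip : ∀ k : ℕ, c ^ k * s = s * (c ^ k)⁻¹ := by
    intro k
    have hsi : s⁻¹ = s := inv_eq_of_mul_eq_one_left hs
    have h1 : s * c * s⁻¹ = c⁻¹ := by rw [hsi]; exact eq_inv_of_mul_eq_one_left hsc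
    have h2 := conj_pow (i := k) (a := s) (b := c)
    rw [h1, hsi, inv_pow] at h2
    rw [h2, ← mul_assoc, ← mul_assoc, hs, one_mul]
  have hadd : ∀ i j : ZMod 4, c ^ i.val * c ^ j.val = c ^ (i + j).val := by
    intro i j
    rw [← pow_add, ZMod.val_add, ← pow_eq_pow_mod _ hp]
  have hneg : ∀ i : ZMod 4, (c ^ i.val)⁻¹ = c ^ (-i).val := by
    intro i
    apply inv_eq_of_mul_eq_one_right
    rw [hadd, add_neg_cancel, ZMod.val_zero, pow_zero]
  let F0 : DihedralGroup 4 → Perm (Fin n) := fun x => match x with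
    | .r i => c ^ i.val
    | .sr i => s * c ^ i.val
  let F : DihedralGroup 4 →* Perm (Fin n) := MonoidHom.mk' F0 fun x y => by
    rcases x with i | i <;> rcases y with j | j
    · rw [DihedralGroup.r_mul_r]; exact (hadd i j).symm
    · rw [DihedralGroup.r_mul_sr]
      show s * c ^ (j - i).val = c ^ i.val * (s * c ^ j.val)
      rw [← mul_assoc, hflip, mul_assoc, hneg, hadd, neg_add_eq_sub]
    · rw [DihedralGroup.sr_mul_r]
      show s * c ^ (i + j).val = s * c ^ i.val * c ^ j.val
      rw [mul_assoc, hadd]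
    · rw [DihedralGroup.sr_mul_sr]
      show c ^ (j - i).val = s * c ^ i.val * (s * c ^ j.val)
      rw [← mul_assoc, mul_assoc s _ s, hflip, ← mul_assoc, hs, one_mul, hneg, hadd,
        neg_add_eq_sub]
  have hinj : Function.Injective F := by
    rw [injective_iff_map_eq_one]
    have hord : orderOf c = 2 ^ (1 + 1) :=
      orderOf_eq_prime_pow (p := 2) (n := 1) (by rw [pow_one, pow_two]; exact hc2)
        (by simpa using hp)
    rintro (i | i) hi
    · have h3 : c ^ i.val = 1 := hi
      have h4 := orderOf_dvd_of_pow_eq_one h3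
      rw [hord] at h4
      rw [(ZMod.val_eq_zero i).1 (Nat.eq_zero_of_dvd_of_lt h4 i.val_lt)]; rfl
    · exfalso
      have h3 : s * c ^ i.val = 1 := hi
      have h4 : s = (c ^ i.val)⁻¹ := eq_inv_of_mul_eq_one_left h3
      rw [hneg] at h4
      have hlt := (-i : ZMod 4).val_lt
      revert h4
      generalize (-i : ZMod 4).val = k at hlt
      interval_cases k
      · exact fun h => hsne.1 (by simpa using h)
      · intro h; rw [pow_one] at h; subst h; exact hc2 hs
      · exact fun h => hsne.2 (by rwa [pow_two] at h)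
      · intro h
        rw [h] at hs
        apply hc2
        have : c ^ 3 * c ^ 3 = c * c * c ^ 4 := by group
        rw [this, hp, mul_one] at hs
        exact hs
  have hsign : ∀ x, Equiv.Perm.sign (F x) = 1 := by
    rintro (i | i)
    · show Equiv.Perm.sign (c ^ i.val) = 1
      rw [map_pow, hsg.1, one_pow]
    · show Equiv.Perm.sign (s * c ^ i.val) = 1
      rw [map_mul, map_pow, hsg.1, hsg.2, one_pow, one_mul]
  refine good_of_list ((Finset.univ : Finset (DihedralGroup 4)).toList.map F) 3 ?_ ?_ (by omega)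
    ?_ ?_ ?_ ?_ ?_
  · rw [List.toFinset_card_of_nodup ((Finset.nodup_toList _).map hinj), List.length_map,
      Finset.length_toList, Finset.card_univ, DihedralGroup.card]
    rfl
  · rcases h6 with rfl | rfl <;> norm_num [Nat.factorial]
  · intro a ha
    obtain ⟨x, -, rfl⟩ := List.mem_map.1 ha
    exact hsign x
  · exact List.mem_map.2 ⟨1, Finset.mem_toList.2 (Finset.mem_univ _), map_one F⟩
  · intro a ha b hb
    obtain ⟨x, -, rfl⟩ := List.mem_map.1 ha
    obtain ⟨y, -, rfl⟩ := List.mem_map.1 hb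
    exact List.mem_map.2 ⟨x * y, Finset.mem_toList.2 (Finset.mem_univ _), map_mul F x y⟩
  · intro a ha
    obtain ⟨x, -, rfl⟩ := List.mem_map.1 ha
    have : ∀ x : DihedralGroup 4, x * x * (x * x) = 1 := by decide
    rw [← map_mul, ← map_mul, this, map_one]
  · intro a ha b hb
    obtain ⟨x, -, rfl⟩ := List.mem_map.1 ha
    obtain ⟨y, -, rfl⟩ := List.mem_map.1 hb
    have : ∀ x y : DihedralGroup 4, x * x = 1 ∨ y * y = 1 ∨ x = y ∨ x * y = 1 := by decide
    intro h h'
    rcases this x y with e | e | e | e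
    · exact absurd (by rw [← map_mul, e, map_one]) h
    · exact absurd (by rw [← map_mul, e, map_one]) h'
    · exact Or.inl (by rw [e])
    · exact Or.inr (by rw [← map_mul, e, map_one])

theorem exists_good {n : ℕ} (h4 : 4 ≤ n) (h7 : n ≤ 7) :
    ∃ D : Subgroup (alternatingGroup (Fin n)), GoodTwoSubgroup D := by
  interval_cases n
  · exact good_of_list [1, swap 0 1 * swap 2 3, swap 0 2 * swap 1 3, swap 0 3 * swap 1 2] 2
      (by decide) (by decide) (by decide) (by decide) (by decide) (by decide) (by decide) (by decide)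
  · exact good_of_list [1, swap 0 1 * swap 2 3, swap 0 2 * swap 1 3, swap 0 3 * swap 1 2] 2
      (by decide) (by decide) (by decide) (by decide) (by decide) (by decide) (by decide) (by decide)
  · exact good_of_dihedral (Or.inl rfl) (swap 0 1 * swap 1 2 * swap 2 3 * swap 4 5)
      (swap 0 2 * swap 4 5) (by decide +kernel) (by decide +kernel) (by decide +kernel)
      (by decide +kernel) (by decide +kernel) (by decide +kernel)
  · exact good_of_dihedral (Or.inr rfl) (swap 0 1 * swap 1 2 * swap 2 3 * swap 4 5)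
      (swap 0 2 * swap 4 5) (by decide +kernel) (by decide +kernel) (by decide +kernel)
      (by decide +kernel) (by decide +kernel) (by decide +kernel)

/-- If a central subgroup `Z` of order two has a complement in a subgroup of odd index, it has one
in the whole group. -/
theorem exists_complement_center {H : Type*} [Group H] [Finite H] (P : Subgroup H)
    (hodd : Odd P.index) (hZc : Nat.card (Subgroup.center H) = 2) (z : H)
    (hz : z ∈ Subgroup.center H) (hz1 : z ≠ 1) (hzP : z ∈ P) (M : Subgroup H) (hMP : M ≤ P)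
    (hzM : z ∉ M) (hsq : ∀ x ∈ P, x * x ∈ M) :
    ∃ L : Subgroup H, (Subgroup.center H).IsComplement' L := by
  obtain ⟨L, ⟨hML, hLP, hzL⟩, hmax⟩ := Set.Finite.exists_maximal
    (Set.toFinite {L : Subgroup H | M ≤ L ∧ L ≤ P ∧ z ∉ L}) ⟨M, le_rfl, hMP, hzM⟩
  have hnorm : ∀ x ∈ P, ∀ l ∈ L, x * l * x⁻¹ ∈ L := by
    intro x hx l hl
    have h1 := hML (hsq x hx)
    have h2 := hML (hsq (x⁻¹ * l) (mul_mem (inv_mem hx) (hLP hl)))
    have : x * l * x⁻¹ = (x * x) * ((x⁻¹ * l) * (x⁻¹ * l)) * l⁻¹ := by group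
    rw [this]
    exact mul_mem (mul_mem h1 h2) (inv_mem hl)
  have hzz : z * z = 1 := by
    have := pow_card_eq_one' (x := (⟨z, hz⟩ : Subgroup.center H))
    rw [hZc, pow_two] at this
    exact congrArg Subtype.val this
  have hdec : ∀ x ∈ P, x ∈ L ∨ x * z ∈ L := by
    intro x hx
    by_contra hno
    simp only [not_or] at hno
    let L' : Subgroup H :=
      { carrier := {y | y ∈ L ∨ y * x⁻¹ ∈ L}
        one_mem' := Or.inl L.one_mem
        mul_mem' := by
          intro a b ha hb
          have hxi : ∀ l ∈ L, x⁻¹ * l * x ∈ L := fun l hl => by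
            simpa using hnorm x⁻¹ (inv_mem hx) l hl
          rcases ha with ha | ha <;> rcases hb with hb | hb
          · exact Or.inl (mul_mem ha hb)
          · right; rw [mul_assoc]; exact mul_mem ha hb
          · right
            have : a * b * x⁻¹ = (a * x⁻¹) * (x * b * x⁻¹) := by group
            rw [this]; exact mul_mem ha (hnorm x hx b hb)
          · left
            have : a * b = (a * x⁻¹) * (x * (b * x⁻¹) * x⁻¹) * (x * x) := by group
            rw [this]; exact mul_mem (mul_mem ha (hnorm x hx _ hb)) (hML (hsq x hx))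
        inv_mem' := by
          intro a ha
          rcases ha with ha | ha
          · exact Or.inl (inv_mem ha)
          · right
            have : a⁻¹ * x⁻¹ = (x⁻¹ * (a * x⁻¹)⁻¹ * x⁻¹⁻¹) * (x * x)⁻¹ := by group
            rw [this]
            exact mul_mem (hnorm x⁻¹ (inv_mem hx) _ (inv_mem ha)) (inv_mem (hML (hsq x hx))) }
    have hLL : L ≤ L' := fun y hy => Or.inl hy
    have hzL' : z ∉ L' := by
      rintro (h | h)
      · exact hzL h
      · apply hno.2
        have : x * z = x * (z * x⁻¹) * x⁻¹ * (x * x) := by group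
        rw [this]
        exact mul_mem (hnorm x hx _ h) (hML (hsq x hx))
    have hL'P : L' ≤ P := by
      rintro y (h | h)
      · exact hLP h
      · simpa using mul_mem (hLP h) hx
    exact hno.1 (hmax ⟨hML.trans hLL, hL'P, hzL'⟩ hLL (Or.inr (by simp)))
  classical
  letI cgc : CommGroup (Subgroup.center H) :=
    { (inferInstance : Group (Subgroup.center H)) with
      mul_comm := fun a b => Subtype.ext (Subgroup.mem_center_iff.1 b.2 a) }
  let f : P →* Subgroup.center H := MonoidHom.mk' (fun x => if (x : H) ∈ L then 1 else ⟨z, hz⟩) (by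
    intro a b
    have hzc : ∀ y, y * z = z * y := fun y => Subgroup.mem_center_iff.1 hz y
    have hnot : ∀ y : H, y ∈ L → y * z ∉ L := fun y hy h => hzL (by simpa using mul_mem (inv_mem hy) h)
    by_cases ha : (a : H) ∈ L <;> by_cases hb : (b : H) ∈ L
    · simp [ha, hb, mul_mem ha hb]
    · have : (a : H) * b ∉ L := fun h => hb (by simpa using mul_mem (inv_mem ha) h)
      simp [ha, hb, this]
    · have : (a : H) * b ∉ L := fun h => ha (by simpa using mul_mem h (inv_mem hb))
      simp [ha, hb, this]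
    · have h1 := mul_mem ((hdec a a.2).resolve_left ha) ((hdec b b.2).resolve_left hb)
      have : (a : H) * z * (b * z) = a * b := by
        rw [mul_assoc, ← mul_assoc z, ← hzc (b : H), mul_assoc (b : H), hzz, mul_one]
      rw [this] at h1
      simp [ha, hb, h1]
      exact Subtype.ext hzz.symm)
  haveI : P.FiniteIndex := inferInstance
  let v : H →* Subgroup.center H := MonoidHom.transfer f
  have hv : v z = ⟨z, hz⟩ := by
    show MonoidHom.transfer f z = _
    rw [MonoidHom.transfer_eq_pow f z (fun k g₀ _ => by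
      rw [mul_assoc, ← Subgroup.mem_center_iff.1 (pow_mem hz k) g₀, inv_mul_cancel_left])]
    obtain ⟨k, hk⟩ := hodd
    have hp : z ^ P.index = z := by rw [hk, pow_succ, pow_mul, pow_two, hzz, one_pow, one_mul]
    simp only [f, MonoidHom.mk'_apply, hp, hzL, if_false]
  have hall : ∀ w ∈ Subgroup.center H, w = 1 ∨ w = z := by
    intro w hw
    obtain ⟨p, q, hpq, hu⟩ := Nat.card_eq_two_iff.1 hZc
    have h3 := fun y : Subgroup.center H => Set.eq_univ_iff_forall.1 hu y
    simp only [Set.mem_insert_iff, Set.mem_singleton_iff] at h3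
    have hz1' : (⟨z, hz⟩ : Subgroup.center H) ≠ 1 := fun e => hz1 (congrArg Subtype.val e)
    have h4 : (⟨w, hw⟩ : Subgroup.center H) = 1 ∨ (⟨w, hw⟩ : Subgroup.center H) = ⟨z, hz⟩ := by
      rcases h3 1 with h | h <;> rcases h3 ⟨z, hz⟩ with h' | h' <;>
        rcases h3 ⟨w, hw⟩ with h'' | h'' <;> simp_all
    rcases h4 with h | h
    · exact Or.inl (congrArg Subtype.val h)
    · exact Or.inr (congrArg Subtype.val h)
  refine ⟨v.ker, Subgroup.isComplement'_of_disjoint_and_mul_eq_univ ?_ ?_⟩
  · rw [Subgroup.disjoint_def]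
    intro w hw hw'
    rcases hall w hw with h | h
    · exact h
    · rw [MonoidHom.mem_ker, h, hv] at hw'
      exact absurd (congrArg Subtype.val hw') hz1
  · refine Set.eq_univ_of_forall fun x => ⟨(v x : H), (v x).2, ((v x : H))⁻¹ * x, ?_, by simp⟩
    rw [SetLike.mem_coe, MonoidHom.mem_ker, map_mul, map_inv, inv_mul_eq_one]
    rcases hall _ (v x).2 with h | h
    · rw [h, map_one]; exact (Subtype.ext h).symm
    · rw [h, hv]; exact (Subtype.ext h).symm

theorem involution_mem_center {n : ℕ} {H : Type*} [Group H] [Finite H] (hn : n ≤ 7)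
    (hH : Cfsg.IsNonsplitDoubleCover H (alternatingGroup (Fin n))) {x : H} (hx : orderOf x = 2) :
    x ∈ Subgroup.center H := by
  obtain ⟨hZc, ⟨φ⟩, hns⟩ := hH
  by_contra hxc
  let π : H →* alternatingGroup (Fin n) := φ.toMonoidHom.comp (QuotientGroup.mk' _)
  have hker : ∀ w, π w = 1 ↔ w ∈ Subgroup.center H := fun w => by simp [π]
  have hsurj : Function.Surjective π := φ.surjective.comp (QuotientGroup.mk'_surjective _)
  have hx2 : x * x = 1 := by
    have := pow_orderOf_eq_one x
    rwa [hx, pow_two] at this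
  have hπx : orderOf (π x) = 2 :=
    orderOf_eq_prime (by rw [← map_pow, pow_two, hx2, map_one]) fun e => hxc ((hker x).1 e)
  have hcsq : ∀ w ∈ Subgroup.center H, w * w = 1 := fun w hw => by
    have := pow_card_eq_one' (x := (⟨w, hw⟩ : Subgroup.center H))
    rw [hZc, pow_two] at this
    exact congrArg Subtype.val this
  have hlift : ∀ h : H, orderOf (π h) = 2 → h * h = 1 := by
    intro h hh
    obtain ⟨g, hg⟩ := isConj_iff.1 (isConj_of_orderOf_two hn _ _ hπx hh)
    obtain ⟨g, rfl⟩ := hsurj g
    have hw : (g * x * g⁻¹)⁻¹ * h ∈ Subgroup.center H := by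
      rw [← hker, map_mul, map_inv, map_mul, map_mul, map_inv, hg, inv_mul_cancel]
    have hc : Commute (g * x * g⁻¹) ((g * x * g⁻¹)⁻¹ * h) := Subgroup.mem_center_iff.1 hw _
    have e : h = (g * x * g⁻¹) * ((g * x * g⁻¹)⁻¹ * h) := (mul_inv_cancel_left _ _).symm
    rw [e, hc.symm.mul_mul_mul_comm, hcsq _ hw, mul_one]
    calc g * x * g⁻¹ * (g * x * g⁻¹) = g * (x * x) * g⁻¹ := by group
      _ = 1 := by rw [hx2]; group
  have h4 : 4 ≤ n := by
    by_contra h
    have hdvd := orderOf_dvd_natCard (π x)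
    rw [hπx] at hdvd
    rcases Nat.lt_or_ge n 2 with h1 | h1
    · have : Subsingleton (Fin n) := Fin.subsingleton_iff_le_one.2 (by omega)
      have hc1 : Nat.card (alternatingGroup (Fin n)) = 1 := by
        rw [Nat.card_eq_one_iff_unique]
        exact ⟨⟨fun a b => Subtype.ext (Equiv.ext fun i => Subsingleton.elim _ _)⟩, ⟨1⟩⟩
      omega
    · haveI : Nontrivial (Fin n) := Fin.nontrivial_iff_two_le.2 h1
      rw [nat_card_alternatingGroup, Nat.card_fin] at hdvd
      interval_cases n <;> norm_num [Nat.factorial] at hdvd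
  obtain ⟨D, ⟨k, hk⟩, hodd, hexp, hsqD⟩ := exists_good h4 hn
  obtain ⟨⟨z, hz⟩, hz1⟩ : ∃ z : Subgroup.center H, z ≠ 1 :=
    haveI := Finite.one_lt_card_iff_nontrivial.1 (by omega : 1 < Nat.card (Subgroup.center H))
    exists_ne 1
  have hz1' : z ≠ 1 := fun e => hz1 (Subtype.ext e)
  -- squares of elements whose image is an involution or trivial
  have hsmall : ∀ p : H, π p ^ 2 = 1 → p * p = 1 := by
    intro p hp
    by_cases h1 : π p = 1
    · exact hcsq p ((hker p).1 h1)
    · exact hlift p (orderOf_eq_prime hp h1)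
  obtain ⟨M, hMP, hzM, hsq⟩ : ∃ M : Subgroup H, M ≤ D.comap π ∧ z ∉ M ∧
      ∀ p ∈ D.comap π, p * p ∈ M := by
    by_cases hall : ∀ a ∈ D, a ^ 2 = 1
    · exact ⟨⊥, bot_le, fun e => hz1' (Subgroup.mem_bot.1 e),
        fun p hp => Subgroup.mem_bot.2 (hsmall p (hall _ hp))⟩
    · simp only [not_forall] at hall
      obtain ⟨a, ha, ha2⟩ := hall
      obtain ⟨h, rfl⟩ := hsurj a
      have hh4 : (h * h) * (h * h) = 1 :=
        hsmall _ (by rw [map_mul, ← pow_two, ← pow_mul]; exact hexp _ ha)
      refine ⟨Subgroup.zpowers (h * h), Subgroup.zpowers_le.2 (mul_mem ha ha), ?_, ?_⟩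
      · intro hzm
        obtain ⟨j, hj⟩ := hzm
        have hj' : (h * h) ^ j = z := hj
        rcases Int.even_or_odd j with ⟨i, rfl⟩ | ⟨i, rfl⟩
        · rw [← two_mul, zpow_mul, zpow_two, hh4, one_zpow] at hj'
          exact hz1' hj'.symm
        · rw [zpow_add_one, zpow_mul, zpow_two, hh4, one_zpow, one_mul] at hj'
          exact ha2 (by rw [pow_two, ← map_mul, hj']; exact (hker z).2 hz)
      · intro p hp
        by_cases hp2 : π p ^ 2 = 1
        · rw [hsmall p hp2]; exact one_mem _
        · rcases hsqD _ hp _ ha hp2 ha2 with e | e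
          · have hw : h⁻¹ * p ∈ Subgroup.center H := by
              rw [← hker, map_mul, map_inv, e, inv_mul_cancel]
            have e' : p = h * (h⁻¹ * p) := by group
            have hc : Commute h (h⁻¹ * p) := Subgroup.mem_center_iff.1 hw _
            rw [e', hc.symm.mul_mul_mul_comm, hcsq _ hw, mul_one]
            exact Subgroup.mem_zpowers _
          · have hw : h * p ∈ Subgroup.center H := by
              rw [← hker, map_mul, e, mul_inv_cancel]
            have e' : p = h⁻¹ * (h * p) := by group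
            have hc : Commute h⁻¹ (h * p) := Subgroup.mem_center_iff.1 hw _
            rw [e', hc.symm.mul_mul_mul_comm, hcsq _ hw, mul_one, ← mul_inv_rev]
            exact inv_mem (Subgroup.mem_zpowers _)
  obtain ⟨L, hL⟩ := exists_complement_center (D.comap π)
    (by rw [Subgroup.index_comap_of_surjective D hsurj]; exact hodd) hZc z hz hz1'
    (by rw [Subgroup.mem_comap, (hker z).2 hz]; exact one_mem _) M hMP hzM hsq
  exact hns L hL

end CfsgLib.DoubleCover
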