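import Mathlib.Data.Matrix.Block
import Mathlib.LinearAlgebra.Matrix.NonsingularInverse
import Mathlib.Data.ZMod.Basic
import Mathlib.GroupTheory.SpecificGroups.Alternating
import Mathlib.GroupTheory.Commutator.Basic
import Mathlib.GroupTheory.Abelianization.Defs
import Mathlib.GroupTheory.QuotientGroup.Basic
import Mathlib.Tactic.NoncommRing
import Mathlib.Tactic.FinCases

/-!
# Double covers of all alternating groups inside Clifford matrices over `ZMod 3`
-/

set_option autoImplicit false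

open Matrix
open scoped commutatorElement

namespace CfsgLib.DoubleCover

/-- Anticommuting matrices over `ZMod 3` with prescribed squares and scalar commutant. -/
def ARep (κ : Type) (s : κ → ZMod 3) : Prop :=
  ∃ (ι : Type) (_ : Fintype ι) (_ : DecidableEq ι) (_ : Nonempty ι)
    (γ : κ → Matrix ι ι (ZMod 3)),
    (∀ i, γ i * γ i = s i • (1 : Matrix ι ι (ZMod 3))) ∧
    (∀ i j, i ≠ j → γ i * γ j = -(γ j * γ i)) ∧
    ∀ M : Matrix ι ι (ZMod 3), (∀ i, M * γ i = γ i * M) → ∃ c : ZMod 3, M = c • 1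

theorem eq_zero_of_add_self {ι : Type} {C : Matrix ι ι (ZMod 3)} (h : C + C = 0) : C = 0 := by
  ext i j
  have h3 := congrFun (congrFun h i) j
  simp only [Matrix.add_apply, Matrix.zero_apply] at h3 ⊢
  revert h3; generalize C i j = x; revert x; decide

theorem add_self_add_self {ι : Type} (M : Matrix ι ι (ZMod 3)) : M + M + M = 0 := by
  ext i j; simp only [Matrix.add_apply, Matrix.zero_apply]
  generalize M i j = x; revert x; decide

/-- Two new generators of square one; the old squares change sign. -/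
theorem aRep_step {κ : Type} {s : κ → ZMod 3} (h : ARep κ s) :
    ARep (κ ⊕ Fin 2) (Sum.elim (fun i => -s i) fun _ => 1) := by
  obtain ⟨ι, i1, i2, i3, γ, hsq, hanti, hcomm⟩ := h
  let E : Matrix (ι ⊕ ι) (ι ⊕ ι) (ZMod 3) := fromBlocks 0 1 1 0
  let F : Matrix (ι ⊕ ι) (ι ⊕ ι) (ZMod 3) := fromBlocks 1 0 0 (-1)
  let G : κ → Matrix (ι ⊕ ι) (ι ⊕ ι) (ZMod 3) := fun i => fromBlocks 0 (γ i) (-γ i) 0
  refine ⟨ι ⊕ ι, inferInstance, inferInstance, inferInstance, Sum.elim G ![E, F], ?_, ?_, ?_⟩
  · rintro (i | i)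
    · simp [G, fromBlocks_multiply, ← fromBlocks_one, fromBlocks_smul, fromBlocks_neg, hsq]
    · fin_cases i
      · simp [E, fromBlocks_multiply, fromBlocks_one]
      · simp [F, fromBlocks_multiply, fromBlocks_one]
  · have hEF : E * F = -(F * E) := by simp [E, F, fromBlocks_multiply, fromBlocks_neg]
    have hEG : ∀ i, E * G i = -(G i * E) := fun i => by
      simp [E, G, fromBlocks_multiply, fromBlocks_neg]
    have hFG : ∀ i, F * G i = -(G i * F) := fun i => by
      simp [F, G, fromBlocks_multiply, fromBlocks_neg]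
    rintro (i | i) (j | j) hij
    · simp [G, fromBlocks_multiply, fromBlocks_neg, hanti i j (fun e => hij (by rw [e]))]
    · fin_cases j
      · simp [hEG i]
      · simp [hFG i]
    · fin_cases i
      · simpa using hEG j
      · simpa using hFG j
    · fin_cases i <;> fin_cases j
      · exact absurd rfl hij
      · simpa using hEF
      · simp [hEF]
      · exact absurd rfl hij
  · intro M hM
    obtain ⟨A, B, C, D, rfl⟩ : ∃ A B C D, M = fromBlocks A B C D :=
      ⟨_, _, _, _, (fromBlocks_toBlocks M).symm⟩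
    have h0 := hM (Sum.inr 0)
    have h1 := hM (Sum.inr 1)
    simp only [Sum.elim_inr, Matrix.cons_val_zero, Matrix.cons_val_one, E, F, fromBlocks_multiply,
      fromBlocks_inj, mul_zero, zero_mul, mul_one, one_mul, mul_neg, neg_mul, add_zero, zero_add]
      at h0 h1
    obtain ⟨hBC, hAD, hDA, hCB⟩ := h0
    obtain ⟨-, hB1, hC1, -⟩ := h1
    have hB0 : B = 0 := eq_zero_of_add_self (by
      nth_rewrite 1 [← hB1]; exact neg_add_cancel B)
    have hC0 : C = 0 := eq_zero_of_add_self (by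
      nth_rewrite 1 [hC1]; exact neg_add_cancel C)
    obtain ⟨c, hc⟩ := hcomm A fun i => by
      have h2 := hM (Sum.inl i)
      simp only [Sum.elim_inl, G, fromBlocks_multiply, fromBlocks_inj, hB0, hC0, mul_zero,
        zero_mul, add_zero, zero_add] at h2
      rw [h2.2.1, show D = A from hAD.symm]
    refine ⟨c, ?_⟩
    rw [hB0, hC0, show D = A from hAD.symm, hc, ← fromBlocks_one, fromBlocks_smul, smul_zero]

/-- Change the indexing type. -/
theorem aRep_equiv {κ κ' : Type} {s : κ → ZMod 3} (e : κ' ≃ κ) (h : ARep κ s) :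
    ARep κ' (fun i => s (e i)) := by
  obtain ⟨ι, i1, i2, i3, γ, hsq, hanti, hcomm⟩ := h
  exact ⟨ι, i1, i2, i3, fun i => γ (e i), fun i => hsq _, fun i j h => hanti _ _ (e.injective.ne h),
    fun M hM => hcomm M fun i => by simpa using hM (e.symm i)⟩

/-- Two squares `-1` may be turned into two squares `1`. -/
theorem aRep_fix {κ : Type} {s : κ → ZMod 3} (h : ARep (κ ⊕ Fin 2) (Sum.elim s fun _ => -1)) :
    ARep (κ ⊕ Fin 2) (Sum.elim s fun _ => 1) := by
  obtain ⟨ι, i1, i2, i3, γ, hsq, hanti, hcomm⟩ := h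
  let a := γ (Sum.inr 0)
  let b := γ (Sum.inr 1)
  have ha : a * a = -1 := (hsq (Sum.inr 0)).trans (neg_one_smul _ _)
  have hb : b * b = -1 := (hsq (Sum.inr 1)).trans (neg_one_smul _ _)
  have hab : a * b = -(b * a) := hanti _ _ (by simp)
  have htwo : (-1 - 1 : Matrix ι ι (ZMod 3)) = 1 := by
    rw [← sub_eq_zero, show (-1 - 1 - 1 : Matrix ι ι (ZMod 3)) = -(1 + 1 + 1) by abel,
      add_self_add_self, neg_zero]
  have h1 : (a + b) * (a + b) = 1 := by
    rw [show (a + b) * (a + b) = a * a + b * b + (a * b + b * a) by noncomm_ring, hab,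
      neg_add_cancel, ha, hb, add_zero, ← sub_eq_add_neg, htwo]
  have h2 : (a - b) * (a - b) = 1 := by
    rw [show (a - b) * (a - b) = a * a + b * b - (a * b + b * a) by noncomm_ring, hab,
      neg_add_cancel, ha, hb, sub_zero, ← sub_eq_add_neg, htwo]
  have h12 : (a + b) * (a - b) = -((a - b) * (a + b)) := by
    rw [mul_sub, add_mul, add_mul, sub_mul, mul_add, mul_add, ha, hb, hab]; abel
  have hk : ∀ k : κ, (γ (Sum.inl k) * (a + b) = -((a + b) * γ (Sum.inl k))) ∧
      (γ (Sum.inl k) * (a - b) = -((a - b) * γ (Sum.inl k))) := fun k => by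
    rw [mul_add, mul_sub, add_mul, sub_mul,
      show γ (Sum.inl k) * a = -(a * γ (Sum.inl k)) from hanti _ _ (by simp),
      show γ (Sum.inl k) * b = -(b * γ (Sum.inl k)) from hanti _ _ (by simp)]
    constructor <;> abel
  refine ⟨ι, i1, i2, i3, Sum.elim (fun k => γ (Sum.inl k)) ![a + b, a - b], ?_, ?_, ?_⟩
  · rintro (i | i)
    · exact hsq (Sum.inl i)
    · fin_cases i
      · simpa using h1
      · simpa using h2
  · rintro (i | i) (j | j) hij
    · exact hanti _ _ (by simpa using hij)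
    · fin_cases j
      · simpa using (hk i).1
      · simpa using (hk i).2
    · fin_cases i
      · simp [(hk j).1]
      · simp [(hk j).2]
    · fin_cases i <;> fin_cases j
      · exact absurd rfl hij
      · simpa using h12
      · simp [h12]
      · exact absurd rfl hij
  · intro M hM
    have q1 : M * (a + b) = (a + b) * M := by simpa using hM (Sum.inr 0)
    have q2 : M * (a - b) = (a - b) * M := by simpa using hM (Sum.inr 1)
    have ea : a = -((a + b) + (a - b)) := by
      rw [show -((a + b) + (a - b)) = a - (a + a + a) by abel, add_self_add_self, sub_zero]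
    have eb : b = -((a + b) - (a - b)) := by
      rw [show -((a + b) - (a - b)) = b - (b + b + b) by abel, add_self_add_self, sub_zero]
    refine hcomm M ?_
    rintro (i | i)
    · exact hM (Sum.inl i)
    · fin_cases i
      · show M * a = a * M
        rw [ea, mul_neg, neg_mul, mul_add M, add_mul _ _ M, q1, q2]
      · show M * b = b * M
        rw [eb, mul_neg, neg_mul, mul_sub M, sub_mul _ _ M, q1, q2]

/-- `4 k` anticommuting involutory matrices with scalar commutant. -/
theorem aRep_four_mul : ∀ k : ℕ, ARep (Fin (4 * k)) fun _ => 1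
  | 0 => ⟨Unit, inferInstance, inferInstance, inferInstance, Fin.elim0, fun i => i.elim0,
      fun i => i.elim0, fun M _ => ⟨M () (), by ext i j; simp⟩⟩
  | k + 1 => by
    have h := aRep_step (aRep_step (aRep_four_mul k))
    let e : (Fin (4 * k) ⊕ Fin 2) ⊕ Fin 2 ≃ (Fin (4 * k) ⊕ Fin 2) ⊕ Fin 2 :=
      (Equiv.sumAssoc _ _ _).trans (((Equiv.refl _).sumCongr (Equiv.sumComm _ _)).trans
        (Equiv.sumAssoc _ _ _).symm)
    have h2 := aRep_equiv e h
    have h3 : ARep ((Fin (4 * k) ⊕ Fin 2) ⊕ Fin 2) (Sum.elim (fun _ => 1) fun _ => -1) := by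
      convert h2 using 1
      funext i
      rcases i with (i | i) | i <;> simp [e]
    have h4 := aRep_equiv ((finSumFinEquiv.sumCongr (Equiv.refl _)).trans finSumFinEquiv).symm
      (aRep_fix h3)
    have h5 : (fun i => Sum.elim (fun _ => (1 : ZMod 3)) (fun _ => (1 : ZMod 3))
        ((((finSumFinEquiv (m := 4 * k) (n := 2)).sumCongr (Equiv.refl (Fin 2))).trans
          finSumFinEquiv).symm i)) = fun _ => 1 := by
      funext i
      rcases (((finSumFinEquiv (m := 4 * k) (n := 2)).sumCongr (Equiv.refl (Fin 2))).trans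
          finSumFinEquiv).symm i with (j | j) <;> simp
    rw [h5] at h4
    exact h4

/-- Every alternating group of degree at least four has a double cover with the central
involution in the commutator subgroup. -/
theorem exists_double_cover (n : ℕ) (hn : 4 ≤ n) :
    ∃ (Γ : Type) (_ : Group Γ) (_ : Finite Γ) (z : Γ) (_ : z ∈ Subgroup.center Γ),
      orderOf z = 2 ∧ z ∈ commutator Γ ∧
      ∃ _ : (Subgroup.zpowers z).Normal,
        Nonempty (Γ ⧸ Subgroup.zpowers z ≃* alternatingGroup (Fin n)) := by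
  obtain ⟨ι, i1, i2, i3, γ, hγsq, hγanti, hγcomm⟩ :=
    aRep_equiv (finSumFinEquiv.trans (finCongr (by omega : n + 3 * n = 4 * n))) (aRep_four_mul n)
  let g : Fin n → Matrix ι ι (ZMod 3) := fun i => γ (Sum.inl i)
  let g' : Fin (3 * n) → Matrix ι ι (ZMod 3) := fun i => γ (Sum.inr i)
  have hsq : ∀ i, g i * g i = 1 := fun i => (hγsq _).trans (one_smul _ _)
  have hanti : ∀ i j, i ≠ j → g i * g j = -(g j * g i) := fun i j h => hγanti _ _ (by simpa using h)
  have hanti' : ∀ i j, g i * g' j = -(g' j * g i) := fun i j => hγanti _ _ (by simp)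
  have hu2 : ∀ a b, a ≠ b → (g a - g b) * (g a - g b) = -1 := by
    intro a b hab
    rw [show (g a - g b) * (g a - g b) = g a * g a + g b * g b - (g a * g b + g b * g a) by
      noncomm_ring, hanti a b hab, neg_add_cancel, hsq, hsq, sub_zero, ← sub_eq_zero, sub_neg_eq_add,
      add_self_add_self]
  have hu : ∀ a b, a ≠ b → ∀ i, (g a - g b) * g i = -(g (Equiv.swap a b i) * (g a - g b)) := by
    intro a b hab i
    rcases eq_or_ne i a with rfl | hia
    · rw [Equiv.swap_apply_left, sub_mul, mul_sub, hsq, hsq, neg_sub]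
    rcases eq_or_ne i b with rfl | hib
    · rw [Equiv.swap_apply_right, sub_mul, mul_sub, hsq, hsq, neg_sub]
    rw [Equiv.swap_apply_of_ne_of_ne hia hib, sub_mul, mul_sub,
      hanti a i (Ne.symm hia), hanti b i (Ne.symm hib)]
    abel
  have hu' : ∀ a b j, (g a - g b) * g' j = -(g' j * (g a - g b)) := by
    intro a b j
    rw [sub_mul, mul_sub, hanti', hanti']
    abel
  have hlift : ∀ σ : Equiv.Perm (Fin n), ∃ M : (Matrix ι ι (ZMod 3))ˣ,
      (∀ i, (M : Matrix ι ι (ZMod 3)) * g i = (Equiv.Perm.sign σ : ℤ) • (g (σ i) * M)) ∧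
      ∀ j, (M : Matrix ι ι (ZMod 3)) * g' j = (Equiv.Perm.sign σ : ℤ) • (g' j * M) := by
    intro σ
    induction σ using Equiv.Perm.swap_induction_on with
    | one => exact ⟨1, fun i => by simp, fun j => by simp⟩
    | swap_mul f a b hab ih =>
      obtain ⟨M, hM, hM'⟩ := ih
      let u : (Matrix ι ι (ZMod 3))ˣ :=
        ⟨g a - g b, -(g a - g b), by rw [mul_neg, hu2 a b hab, neg_neg],
          by rw [neg_mul, hu2 a b hab, neg_neg]⟩
      refine ⟨u * M, fun i => ?_, fun j => ?_⟩
      · rw [Units.val_mul, map_mul, Equiv.Perm.sign_swap hab, mul_assoc, hM i, mul_smul_comm,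
          ← mul_assoc]
        show (Equiv.Perm.sign f : ℤ) • ((g a - g b) * g (f i) * M) = _
        rw [hu a b hab, neg_mul, mul_assoc, smul_neg, ← neg_smul]
        simp [u]
      · rw [Units.val_mul, map_mul, Equiv.Perm.sign_swap hab, mul_assoc, hM' j, mul_smul_comm,
          ← mul_assoc]
        show (Equiv.Perm.sign f : ℤ) • ((g a - g b) * g' j * M) = _
        rw [hu' a b, neg_mul, mul_assoc, smul_neg, ← neg_smul]
        simp [u]
  let S : Subgroup (alternatingGroup (Fin n) × (Matrix ι ι (ZMod 3))ˣ) :=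
    { carrier := {p | (∀ i, (p.2 : Matrix ι ι (ZMod 3)) * g i =
          g ((p.1 : Equiv.Perm (Fin n)) i) * p.2) ∧
        ∀ j, (p.2 : Matrix ι ι (ZMod 3)) * g' j = g' j * p.2}
      one_mem' := ⟨fun i => by simp, fun j => by simp⟩
      mul_mem' := by
        intro p q hp hq
        refine ⟨fun i => ?_, fun j => ?_⟩
        · show ((p.2 * q.2 : (Matrix ι ι (ZMod 3))ˣ) : Matrix ι ι (ZMod 3)) * g i = _
          rw [Units.val_mul, mul_assoc, hq.1 i, ← mul_assoc, hp.1, mul_assoc]
          simp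
        · show ((p.2 * q.2 : (Matrix ι ι (ZMod 3))ˣ) : Matrix ι ι (ZMod 3)) * g' j = _
          rw [Units.val_mul, mul_assoc, hq.2 j, ← mul_assoc, hp.2, mul_assoc]
          simp
      inv_mem' := by
        intro p hp
        refine ⟨fun i => ?_, fun j => ?_⟩
        · have h := hp.1 ((p.1 : Equiv.Perm (Fin n))⁻¹ i)
          rw [Equiv.Perm.inv_def, Equiv.apply_symm_apply, ← Equiv.Perm.inv_def] at h
          show ((p.2⁻¹ : (Matrix ι ι (ZMod 3))ˣ) : Matrix ι ι (ZMod 3)) * g i = _
          rw [Units.inv_mul_eq_iff_eq_mul, ← mul_assoc]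
          show g i = (p.2 : Matrix ι ι (ZMod 3)) * g ((p.1 : Equiv.Perm (Fin n))⁻¹ i) *
            ((p.2⁻¹ : (Matrix ι ι (ZMod 3))ˣ) : Matrix ι ι (ZMod 3))
          rw [h, mul_assoc, Units.mul_inv, mul_one]
        · show ((p.2⁻¹ : (Matrix ι ι (ZMod 3))ˣ) : Matrix ι ι (ZMod 3)) * g' j = g' j * _
          rw [Units.inv_mul_eq_iff_eq_mul, ← mul_assoc, hp.2 j, mul_assoc]
          exact (congrArg (g' j * ·) (Units.mul_inv p.2)).trans (mul_one _) |>.symm }
  let π : S →* alternatingGroup (Fin n) := (MonoidHom.fst _ _).comp S.subtype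
  have hsurj : Function.Surjective π := by
    intro σ
    obtain ⟨M, hM, hM'⟩ := hlift σ
    refine ⟨⟨(σ, M), fun i => ?_, fun j => ?_⟩, rfl⟩
    · rw [hM i, Equiv.Perm.mem_alternatingGroup.1 σ.2]; simp
    · rw [hM' j, Equiv.Perm.mem_alternatingGroup.1 σ.2]; simp
  have hone : ∀ p : S, π p = 1 → ((p.1.2 : Matrix ι ι (ZMod 3)) = 1 ∨
      (p.1.2 : Matrix ι ι (ZMod 3)) = -1) := by
    intro p hp
    obtain ⟨c, hc⟩ := hγcomm (p.1.2 : Matrix ι ι (ZMod 3)) (by
      rintro (i | j)
      · have := p.2.1 i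
        rw [show p.1.1 = 1 from hp] at this
        simpa using this
      · exact p.2.2 j)
    have hc0 : c ≠ 0 := by
      intro h0
      rw [h0, zero_smul] at hc
      have h1 := p.1.2.mul_inv
      rw [hc, zero_mul] at h1
      obtain ⟨x⟩ := i3
      exact zero_ne_one (α := ZMod 3) (by simpa using congrFun (congrFun h1 x) x)
    rcases (show ∀ c : ZMod 3, c ≠ 0 → c = 1 ∨ c = -1 by decide) c hc0 with rfl | rfl
    · exact Or.inl (by rw [hc, one_smul])
    · exact Or.inr (by rw [hc, neg_one_smul])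
  let z : S := ⟨(1, -1), fun i => by simp, fun j => by simp⟩
  have hz1 : z ≠ 1 := by
    intro h
    have h1 : ((-1 : (Matrix ι ι (ZMod 3))ˣ) : Matrix ι ι (ZMod 3)) = 1 :=
      congrArg (fun q : S => (q.1.2 : Matrix ι ι (ZMod 3))) h
    obtain ⟨x⟩ := i3
    have h2 := congrFun (congrFun h1 x) x
    simp at h2
    exact absurd h2 (by decide)
  have hzz : z * z = 1 := Subtype.ext (Prod.ext (one_mul _) (Units.ext (by simp [z])))
  have hzc : z ∈ Subgroup.center S := by
    refine Subgroup.mem_center_iff.2 fun q => Subtype.ext (Prod.ext ?_ (Units.ext ?_))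
    · simp [z]
    · simp [z]
  have hord : orderOf z = 2 := orderOf_eq_prime (by rw [pow_two]; exact hzz) hz1
  have hnorm : (Subgroup.zpowers z).Normal :=
    ⟨fun y hy q => by
      rw [Subgroup.mem_center_iff.1 (Subgroup.zpowers_le.2 hzc hy) q, mul_inv_cancel_right]
      exact hy⟩
  have hker : Subgroup.zpowers z = π.ker := by
    refine le_antisymm (Subgroup.zpowers_le.2 rfl) fun p hp => ?_
    rcases hone p hp with h | h
    · rw [show p = 1 from Subtype.ext (Prod.ext hp (Units.ext h))]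
      exact one_mem _
    · rw [show p = z from Subtype.ext (Prod.ext hp (Units.ext (by simpa [z] using h)))]
      exact Subgroup.mem_zpowers z
  -- two lifts in the four group anticommute
  have hpair : ∀ a b c d : Fin n, a ≠ b → c ≠ d → a ≠ c → a ≠ d → b ≠ c → b ≠ d → ∃ p : S,
      (p.1.1 : Equiv.Perm (Fin n)) = Equiv.swap a b * Equiv.swap c d ∧
      (p.1.2 : Matrix ι ι (ZMod 3)) = (g a - g b) * (g c - g d) := by
    intro a b c d hab hcd hac had hbc hbd
    refine ⟨⟨(⟨Equiv.swap a b * Equiv.swap c d, ?_⟩,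
      ⟨(g a - g b) * (g c - g d), (g c - g d) * (g a - g b), ?_, ?_⟩), fun i => ?_, fun j => ?_⟩,
      rfl, rfl⟩
    · rw [Equiv.Perm.mem_alternatingGroup, map_mul, Equiv.Perm.sign_swap hab,
        Equiv.Perm.sign_swap hcd]
      rfl
    · rw [mul_assoc, ← mul_assoc (g c - g d), hu2 c d hcd, neg_mul, one_mul, mul_neg,
        hu2 a b hab, neg_neg]
    · rw [mul_assoc, ← mul_assoc (g a - g b), hu2 a b hab, neg_mul, one_mul, mul_neg,
        hu2 c d hcd, neg_neg]
    · show (g a - g b) * (g c - g d) * g i =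
        g ((Equiv.swap a b * Equiv.swap c d) i) * ((g a - g b) * (g c - g d))
      rw [mul_assoc, hu c d hcd, mul_neg, ← mul_assoc, hu a b hab, neg_mul, neg_neg, mul_assoc]
      rfl
    · show (g a - g b) * (g c - g d) * g' j = g' j * ((g a - g b) * (g c - g d))
      rw [mul_assoc, hu' c d, mul_neg, ← mul_assoc, hu' a b, neg_mul, neg_neg, mul_assoc]
  obtain ⟨x0, x1, x2, x3, h01, h02, h03, h12, h13, h23⟩ :
      ∃ x0 x1 x2 x3 : Fin n, x0 ≠ x1 ∧ x0 ≠ x2 ∧ x0 ≠ x3 ∧ x1 ≠ x2 ∧ x1 ≠ x3 ∧ x2 ≠ x3 :=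
    ⟨⟨0, by omega⟩, ⟨1, by omega⟩, ⟨2, by omega⟩, ⟨3, by omega⟩, by simp, by simp, by simp,
      by simp, by simp, by simp⟩
  obtain ⟨P, hPp, hPm⟩ := hpair x0 x1 x2 x3 h01 h23 h02 h03 h12 h13
  obtain ⟨Q, hQp, hQm⟩ := hpair x0 x2 x1 x3 h02 h13 h01 h03 (Ne.symm h12) h23
  have hsw : Equiv.swap x0 x1 * Equiv.swap x2 x3 * (Equiv.swap x0 x2 * Equiv.swap x1 x3) =
      Equiv.swap x0 x2 * Equiv.swap x1 x3 * (Equiv.swap x0 x1 * Equiv.swap x2 x3) := by
    ext i
    simp only [Equiv.Perm.mul_apply]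
    rcases eq_or_ne i x0 with rfl | e0
    · simp [Equiv.swap_apply_def, h01, h02, h03, h12, h13, h23, Ne.symm h01, Ne.symm h02,
        Ne.symm h03, Ne.symm h12, Ne.symm h13, Ne.symm h23]
    rcases eq_or_ne i x1 with rfl | e1
    · simp [Equiv.swap_apply_def, h01, h02, h03, h12, h13, h23, Ne.symm h01, Ne.symm h02,
        Ne.symm h03, Ne.symm h12, Ne.symm h13, Ne.symm h23]
    rcases eq_or_ne i x2 with rfl | e2
    · simp [Equiv.swap_apply_def, h01, h02, h03, h12, h13, h23, Ne.symm h01, Ne.symm h02,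
        Ne.symm h03, Ne.symm h12, Ne.symm h13, Ne.symm h23]
    rcases eq_or_ne i x3 with rfl | e3
    · simp [Equiv.swap_apply_def, h01, h02, h03, h12, h13, h23, Ne.symm h01, Ne.symm h02,
        Ne.symm h03, Ne.symm h12, Ne.symm h13, Ne.symm h23]
    simp [Equiv.swap_apply_of_ne_of_ne, e0, e1, e2, e3]
  have hPQ : P * Q = z * (Q * P) := by
    refine Subtype.ext (Prod.ext (Subtype.ext ?_) (Units.ext ?_))
    · show (P.1.1 : Equiv.Perm (Fin n)) * Q.1.1 = 1 * ((Q.1.1 : Equiv.Perm (Fin n)) * P.1.1)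
      rw [hPp, hQp, one_mul, hsw]
    · show (P.1.2 : Matrix ι ι (ZMod 3)) * Q.1.2 = _
      have hP := P.2.1
      simp only [hPp] at hP
      have e1 : (P.1.2 : Matrix ι ι (ZMod 3)) * (g x0 - g x2) = (g x1 - g x3) * P.1.2 := by
        rw [mul_sub, hP, hP, sub_mul]
        simp [Equiv.swap_apply_of_ne_of_ne, h01, h02, h03, h12, h13, h23, Ne.symm h01, Ne.symm h02,
          Ne.symm h03, Ne.symm h12, Ne.symm h13, Ne.symm h23]
      have e2 : (P.1.2 : Matrix ι ι (ZMod 3)) * (g x1 - g x3) = (g x0 - g x2) * P.1.2 := by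
        rw [mul_sub, hP, hP, sub_mul]
        simp [Equiv.swap_apply_of_ne_of_ne, h01, h02, h03, h12, h13, h23, Ne.symm h01, Ne.symm h02,
          Ne.symm h03, Ne.symm h12, Ne.symm h13, Ne.symm h23]
      have e3 : (g x1 - g x3) * (g x0 - g x2) = -((g x0 - g x2) * (g x1 - g x3)) := by
        simp only [mul_sub, sub_mul, hanti x1 x0 h01.symm, hanti x1 x2 h12, hanti x3 x0 h03.symm,
          hanti x3 x2 h23.symm]
        abel
      rw [hQm, ← mul_assoc, e1, mul_assoc, e2, ← mul_assoc, e3]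
      simp [z, hQm, mul_assoc]
  refine ⟨S, inferInstance, inferInstance, z, hzc, hord, ?_, hnorm,
    ⟨(QuotientGroup.quotientMulEquivOfEq hker).trans
      (QuotientGroup.quotientKerEquivOfSurjective π hsurj)⟩⟩
  have hcom : ⁅P, Q⁆ = z := by
    rw [commutatorElement_def, hPQ]; group
  rw [← hcom, commutator_def]
  exact Subgroup.commutator_mem_commutator (Subgroup.mem_top _) (Subgroup.mem_top _)

end CfsgLib.DoubleCover
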