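import Mathlib
import Cfsg.Prelude.Def_SporadicB

set_option autoImplicit false

/-! A non-split double cover of `A_8`, inside the units of a Clifford algebra over `ZMod 3`. -/

namespace CfsgLib.DoubleCover

open Matrix

/-- There are `n` anticommuting matrices with prescribed squares whose commutant is the scalars. -/
def CliffordRep (n : ℕ) (s : Fin n → ZMod 3) : Prop :=
  ∃ (ι : Type) (_ : Fintype ι) (_ : DecidableEq ι) (_ : Nonempty ι)
    (γ : Fin n → Matrix ι ι (ZMod 3)),
    (∀ i, γ i * γ i = s i • (1 : Matrix ι ι (ZMod 3))) ∧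
    (∀ i j, i ≠ j → γ i * γ j = -(γ j * γ i)) ∧
    ∀ M : Matrix ι ι (ZMod 3), (∀ i, M * γ i = γ i * M) → ∃ c : ZMod 3, M = c • 1

theorem cliffordRep_zero : CliffordRep 0 Fin.elim0 :=
  ⟨Unit, inferInstance, inferInstance, inferInstance, Fin.elim0, fun i => i.elim0,
    fun i => i.elim0, fun M _ => ⟨M () (), by ext i j; simp⟩⟩

theorem cliffordRep_step {n : ℕ} {s : Fin n → ZMod 3} (h : CliffordRep n s) :
    CliffordRep (n + 2) (Fin.cons 1 (Fin.cons (-1) s)) := by
  obtain ⟨ι, i1, i2, i3, γ, hsq, hanti, hcomm⟩ := h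
  let E : Matrix (ι ⊕ ι) (ι ⊕ ι) (ZMod 3) := fromBlocks 0 1 1 0
  let F : Matrix (ι ⊕ ι) (ι ⊕ ι) (ZMod 3) := fromBlocks 0 (-1) 1 0
  let G : Fin n → Matrix (ι ⊕ ι) (ι ⊕ ι) (ZMod 3) := fun i => fromBlocks (γ i) 0 0 (-γ i)
  refine ⟨ι ⊕ ι, inferInstance, inferInstance, inferInstance, Fin.cons E (Fin.cons F G), ?_, ?_, ?_⟩
  · intro i
    refine Fin.cases ?_ (fun i => Fin.cases ?_ (fun i => ?_) i) i
    · simp [E, fromBlocks_multiply, fromBlocks_one]
    · simp [F, fromBlocks_multiply, ← fromBlocks_one, fromBlocks_neg]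
    · simp [G, fromBlocks_multiply, ← fromBlocks_one, fromBlocks_smul, hsq]
  · have hEF : E * F = -(F * E) := by simp [E, F, fromBlocks_multiply, fromBlocks_neg]
    have hEG : ∀ i, E * G i = -(G i * E) := fun i => by
      simp [E, G, fromBlocks_multiply, fromBlocks_neg]
    have hFG : ∀ i, F * G i = -(G i * F) := fun i => by
      simp [F, G, fromBlocks_multiply, fromBlocks_neg]
    have hGG : ∀ i j, i ≠ j → G i * G j = -(G j * G i) := fun i j hij => by
      simp [G, fromBlocks_multiply, fromBlocks_neg, hanti i j hij]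
    intro i
    refine Fin.cases ?_ (fun i => Fin.cases ?_ (fun i => ?_) i) i <;> intro j <;>
      refine Fin.cases ?_ (fun j => Fin.cases ?_ (fun j => ?_) j) j <;> intro hij
    · exact absurd rfl hij
    · simpa using hEF
    · simpa using hEG j
    · simp [hEF]
    · exact absurd rfl hij
    · simpa using hFG j
    · simp [hEG i]
    · simp [hFG i]
    · simp only [Fin.cons_succ]; exact hGG i j fun e => hij (by rw [e])
  · intro M hM
    obtain ⟨A, B, C, D, rfl⟩ : ∃ A B C D, M = fromBlocks A B C D :=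
      ⟨_, _, _, _, (fromBlocks_toBlocks M).symm⟩
    have h0 := hM 0
    have h1 := hM (Fin.succ 0)
    simp only [Fin.cons_zero, Fin.cons_succ, E, F, fromBlocks_multiply, fromBlocks_inj, mul_zero,
      zero_mul, mul_one, one_mul, mul_neg, neg_mul, add_zero, zero_add] at h0 h1
    obtain ⟨hBC, hAD, hDA, hCB⟩ := h0
    obtain ⟨hB1, -, -, -⟩ := h1
    have hC0 : C = 0 := by
      rw [hBC] at hB1
      have h2 : C + C = 0 := by
        calc C + C = C + (-C) := by rw [← hB1]
          _ = 0 := add_neg_cancel C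
      ext i j
      have h3 := congrFun (congrFun h2 i) j
      simp only [Matrix.add_apply, Matrix.zero_apply] at h3 ⊢
      revert h3; generalize C i j = x; revert x; decide
    have hB0 : B = 0 := hBC.trans hC0
    obtain ⟨c, hc⟩ := hcomm A fun i => by
      have h2 := hM (Fin.succ (Fin.succ i))
      simp only [Fin.cons_succ, G, fromBlocks_multiply, fromBlocks_inj, hB0, hC0, mul_zero,
        zero_mul, add_zero, zero_add] at h2
      exact h2.1
    refine ⟨c, ?_⟩
    have hD : D = A := hDA.trans rfl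
    rw [hB0, hC0, hD, hc, ← fromBlocks_one, fromBlocks_smul, smul_zero]

/-- Eight anticommuting involutory matrices over `ZMod 3` with scalar commutant. -/
theorem exists_clifford_eight :
    ∃ (ι : Type) (_ : Fintype ι) (_ : DecidableEq ι) (_ : Nonempty ι)
      (g : Fin 8 → Matrix ι ι (ZMod 3)),
      (∀ i, g i * g i = 1) ∧ (∀ i j, i ≠ j → g i * g j = -(g j * g i)) ∧
      ∀ M : Matrix ι ι (ZMod 3), (∀ i, M * g i = g i * M) → ∃ c : ZMod 3, M = c • 1 := by
  obtain ⟨ι, i1, i2, i3, γ, hsq, hanti, hcomm⟩ :=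
    cliffordRep_step (cliffordRep_step (cliffordRep_step (cliffordRep_step cliffordRep_zero)))
  -- indices 0,2,4,6 square to 1 and 1,3,5,7 square to -1
  let g : Fin 8 → Matrix ι ι (ZMod 3) :=
    ![γ 0, γ 2, γ 4, γ 6, γ 1 + γ 3, γ 1 - γ 3, γ 5 + γ 7, γ 5 - γ 7]
  have p0 : γ 0 * γ 0 = 1 := by rw [hsq]; exact one_smul _ _
  have p2 : γ 2 * γ 2 = 1 := by rw [hsq]; exact one_smul _ _
  have p4 : γ 4 * γ 4 = 1 := by rw [hsq]; exact one_smul _ _
  have p6 : γ 6 * γ 6 = 1 := by rw [hsq]; exact one_smul _ _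
  have m1 : γ 1 * γ 1 = -1 := by rw [hsq]; exact neg_one_smul _ _
  have m3 : γ 3 * γ 3 = -1 := by rw [hsq]; exact neg_one_smul _ _
  have m5 : γ 5 * γ 5 = -1 := by rw [hsq]; exact neg_one_smul _ _
  have m7 : γ 7 * γ 7 = -1 := by rw [hsq]; exact neg_one_smul _ _
  have hthree : ∀ M : Matrix ι ι (ZMod 3), M + M + M = 0 := fun M => by
    ext i j; simp only [Matrix.add_apply, Matrix.zero_apply]
    generalize M i j = x; revert x; decide
  have htwo : (-1 - 1 : Matrix ι ι (ZMod 3)) = 1 := by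
    rw [← sub_eq_zero, show (-1 - 1 - 1 : Matrix ι ι (ZMod 3)) = -(1 + 1 + 1) by abel, hthree,
      neg_zero]
  have hne : ∀ i j : Fin 8, i ≠ j → γ i * γ j = -(γ j * γ i) := hanti
  have hneg : ∀ i j : Fin 8, i ≠ j → γ i * γ j + γ j * γ i = 0 := fun i j h => by
    rw [hne i j h, neg_add_cancel]
  refine ⟨ι, i1, i2, i3, g, ?_, ?_, ?_⟩
  · intro i
    have a13 := hneg 1 3 (by decide)
    have a57 := hneg 5 7 (by decide)
    fin_cases i
    · exact p0
    · exact p2
    · exact p4
    · exact p6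
    · show (γ 1 + γ 3) * (γ 1 + γ 3) = 1
      rw [show (γ 1 + γ 3) * (γ 1 + γ 3) = γ 1 * γ 1 + γ 3 * γ 3 + (γ 1 * γ 3 + γ 3 * γ 1) by
        noncomm_ring, a13, m1, m3, add_zero, ← sub_eq_add_neg, htwo]
    · show (γ 1 - γ 3) * (γ 1 - γ 3) = 1
      rw [show (γ 1 - γ 3) * (γ 1 - γ 3) = γ 1 * γ 1 + γ 3 * γ 3 - (γ 1 * γ 3 + γ 3 * γ 1) by
        noncomm_ring, a13, m1, m3, sub_zero, ← sub_eq_add_neg, htwo]
    · show (γ 5 + γ 7) * (γ 5 + γ 7) = 1
      rw [show (γ 5 + γ 7) * (γ 5 + γ 7) = γ 5 * γ 5 + γ 7 * γ 7 + (γ 5 * γ 7 + γ 7 * γ 5) by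
        noncomm_ring, a57, m5, m7, add_zero, ← sub_eq_add_neg, htwo]
    · show (γ 5 - γ 7) * (γ 5 - γ 7) = 1
      rw [show (γ 5 - γ 7) * (γ 5 - γ 7) = γ 5 * γ 5 + γ 7 * γ 7 - (γ 5 * γ 7 + γ 7 * γ 5) by
        noncomm_ring, a57, m5, m7, sub_zero, ← sub_eq_add_neg, htwo]
  · have L1 : ∀ a b c : Fin 8, a ≠ b → a ≠ c →
        γ a * (γ b + γ c) = -((γ b + γ c) * γ a) ∧ γ a * (γ b - γ c) = -((γ b - γ c) * γ a) :=
      fun a b c h h' => by
        rw [mul_add, mul_sub, add_mul, sub_mul, hne a b h, hne a c h']; constructor <;> abel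
    have L2 : ∀ a b : Fin 8, a ≠ b → γ a * γ a = -1 → γ b * γ b = -1 →
        (γ a + γ b) * (γ a - γ b) = -((γ a - γ b) * (γ a + γ b)) := fun a b h e e' => by
      rw [mul_sub, add_mul, add_mul, sub_mul, mul_add, mul_add, e, e', hne a b h]; abel
    have L3 : ∀ a b c d : Fin 8, a ≠ c → a ≠ d → b ≠ c → b ≠ d →
        (γ a + γ b) * (γ c + γ d) = -((γ c + γ d) * (γ a + γ b)) ∧
        (γ a + γ b) * (γ c - γ d) = -((γ c - γ d) * (γ a + γ b)) ∧
        (γ a - γ b) * (γ c + γ d) = -((γ c + γ d) * (γ a - γ b)) ∧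
        (γ a - γ b) * (γ c - γ d) = -((γ c - γ d) * (γ a - γ b)) := fun a b c d h1 h2 h3 h4 => by
      simp only [mul_add, mul_sub, add_mul, sub_mul, hne a c h1, hne a d h2, hne b c h3, hne b d h4]
      refine ⟨?_, ?_, ?_, ?_⟩ <;> abel
    have hlt : ∀ i j : Fin 8, i < j → g i * g j = -(g j * g i) := by
      have e01 : g 0 * g 1 = -(g 1 * g 0) := hne 0 2 (by decide)
      have e02 : g 0 * g 2 = -(g 2 * g 0) := hne 0 4 (by decide)
      have e03 : g 0 * g 3 = -(g 3 * g 0) := hne 0 6 (by decide)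
      have e04 : g 0 * g 4 = -(g 4 * g 0) := (L1 0 1 3 (by decide) (by decide)).1
      have e05 : g 0 * g 5 = -(g 5 * g 0) := (L1 0 1 3 (by decide) (by decide)).2
      have e06 : g 0 * g 6 = -(g 6 * g 0) := (L1 0 5 7 (by decide) (by decide)).1
      have e07 : g 0 * g 7 = -(g 7 * g 0) := (L1 0 5 7 (by decide) (by decide)).2
      have e12 : g 1 * g 2 = -(g 2 * g 1) := hne 2 4 (by decide)
      have e13 : g 1 * g 3 = -(g 3 * g 1) := hne 2 6 (by decide)
      have e14 : g 1 * g 4 = -(g 4 * g 1) := (L1 2 1 3 (by decide) (by decide)).1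
      have e15 : g 1 * g 5 = -(g 5 * g 1) := (L1 2 1 3 (by decide) (by decide)).2
      have e16 : g 1 * g 6 = -(g 6 * g 1) := (L1 2 5 7 (by decide) (by decide)).1
      have e17 : g 1 * g 7 = -(g 7 * g 1) := (L1 2 5 7 (by decide) (by decide)).2
      have e23 : g 2 * g 3 = -(g 3 * g 2) := hne 4 6 (by decide)
      have e24 : g 2 * g 4 = -(g 4 * g 2) := (L1 4 1 3 (by decide) (by decide)).1
      have e25 : g 2 * g 5 = -(g 5 * g 2) := (L1 4 1 3 (by decide) (by decide)).2
      have e26 : g 2 * g 6 = -(g 6 * g 2) := (L1 4 5 7 (by decide) (by decide)).1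
      have e27 : g 2 * g 7 = -(g 7 * g 2) := (L1 4 5 7 (by decide) (by decide)).2
      have e34 : g 3 * g 4 = -(g 4 * g 3) := (L1 6 1 3 (by decide) (by decide)).1
      have e35 : g 3 * g 5 = -(g 5 * g 3) := (L1 6 1 3 (by decide) (by decide)).2
      have e36 : g 3 * g 6 = -(g 6 * g 3) := (L1 6 5 7 (by decide) (by decide)).1
      have e37 : g 3 * g 7 = -(g 7 * g 3) := (L1 6 5 7 (by decide) (by decide)).2
      have e45 : g 4 * g 5 = -(g 5 * g 4) := L2 1 3 (by decide) m1 m3
      have e46 : g 4 * g 6 = -(g 6 * g 4) := (L3 1 3 5 7 (by decide) (by decide) (by decide) (by decide)).1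
      have e47 : g 4 * g 7 = -(g 7 * g 4) := (L3 1 3 5 7 (by decide) (by decide) (by decide) (by decide)).2.1
      have e56 : g 5 * g 6 = -(g 6 * g 5) := (L3 1 3 5 7 (by decide) (by decide) (by decide) (by decide)).2.2.1
      have e57 : g 5 * g 7 = -(g 7 * g 5) := (L3 1 3 5 7 (by decide) (by decide) (by decide) (by decide)).2.2.2
      have e67 : g 6 * g 7 = -(g 7 * g 6) := L2 5 7 (by decide) m5 m7
      intro i j hij
      clear_value g
      fin_cases i <;> fin_cases j <;> first | assumption | exact absurd hij (by decide)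
    intro i j hij
    rcases lt_or_gt_of_ne hij with h | h
    · exact hlt i j h
    · rw [hlt j i h, neg_neg]
  · intro M hM
    refine hcomm M fun i => ?_
    have L4 : ∀ (a b : Fin 8), M * (γ a + γ b) = (γ a + γ b) * M →
        M * (γ a - γ b) = (γ a - γ b) * M → M * γ a = γ a * M ∧ M * γ b = γ b * M := by
      intro a b h1 h2
      have ea : γ a = -((γ a + γ b) + (γ a - γ b)) := by
        rw [show -((γ a + γ b) + (γ a - γ b)) = γ a - (γ a + γ a + γ a) by abel, hthree, sub_zero]
      have eb : γ b = -((γ a + γ b) - (γ a - γ b)) := by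
        rw [show -((γ a + γ b) - (γ a - γ b)) = γ b - (γ b + γ b + γ b) by abel, hthree, sub_zero]
      constructor
      · rw [ea, mul_neg, neg_mul, mul_add M, add_mul _ _ M, h1, h2]
      · rw [eb, mul_neg, neg_mul, mul_sub M, sub_mul _ _ M, h1, h2]
    have q13 := L4 1 3 (hM 4) (hM 5)
    have q57 := L4 5 7 (hM 6) (hM 7)
    fin_cases i
    · exact hM 0
    · exact q13.1
    · exact hM 1
    · exact q13.2
    · exact hM 2
    · exact q57.1
    · exact hM 3
    · exact q57.2

theorem exists_double_cover_eight :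
    ∃ (H : Type) (_ : Group H) (_ : Finite H),
      Cfsg.IsNonsplitDoubleCover H (alternatingGroup (Fin 8)) ∧
        ∃ x y : H, x ≠ y ∧ orderOf x = 2 ∧ orderOf y = 2 := by
  obtain ⟨ι, i1, i2, i3, g, hsq, hanti, hcomm⟩ := exists_clifford_eight
  -- every permutation acts, up to sign, by conjugation by a unit
  have hlift : ∀ σ : Equiv.Perm (Fin 8), ∃ M : (Matrix ι ι (ZMod 3))ˣ,
      ∀ i, (M : Matrix ι ι (ZMod 3)) * g i = (Equiv.Perm.sign σ : ℤ) • (g (σ i) * M) := by
    intro σ
    induction σ using Equiv.Perm.swap_induction_on with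
    | one => exact ⟨1, fun i => by simp⟩
    | swap_mul f a b hab ih =>
      obtain ⟨M, hM⟩ := ih
      have hu2 : (g a - g b) * (g a - g b) = -1 := by
        rw [show (g a - g b) * (g a - g b) = g a * g a + g b * g b - (g a * g b + g b * g a) by
          noncomm_ring, hanti a b hab, neg_add_cancel, hsq, hsq, sub_zero, ← sub_eq_zero]
        ext i j
        simp only [Matrix.add_apply, Matrix.sub_apply, Matrix.neg_apply, Matrix.zero_apply]
        generalize (1 : Matrix ι ι (ZMod 3)) i j = x; revert x; decide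
      let u : (Matrix ι ι (ZMod 3))ˣ :=
        ⟨g a - g b, -(g a - g b), by rw [mul_neg, hu2, neg_neg], by rw [neg_mul, hu2, neg_neg]⟩
      have hu : ∀ i, (g a - g b) * g i = -(g (Equiv.swap a b i) * (g a - g b)) := by
        intro i
        rcases eq_or_ne i a with rfl | hia
        · rw [Equiv.swap_apply_left, sub_mul, mul_sub, hsq, hsq, neg_sub]
        rcases eq_or_ne i b with rfl | hib
        · rw [Equiv.swap_apply_right, sub_mul, mul_sub, hsq, hsq, neg_sub]
        rw [Equiv.swap_apply_of_ne_of_ne hia hib, sub_mul, mul_sub,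
          hanti a i (Ne.symm hia), hanti b i (Ne.symm hib)]
        abel
      refine ⟨u * M, fun i => ?_⟩
      rw [Units.val_mul, map_mul, Equiv.Perm.sign_swap hab, mul_assoc, hM i, mul_smul_comm,
        ← mul_assoc]
      show (Equiv.Perm.sign f : ℤ) • ((g a - g b) * g (f i) * M) = _
      rw [hu, neg_mul, mul_assoc, smul_neg, ← neg_smul]
      simp [u]
  let S : Subgroup (alternatingGroup (Fin 8) × (Matrix ι ι (ZMod 3))ˣ) :=
    { carrier := {p | ∀ i, (p.2 : Matrix ι ι (ZMod 3)) * g i = g ((p.1 : Equiv.Perm (Fin 8)) i) * p.2}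
      one_mem' := fun i => by simp
      mul_mem' := by
        intro p q hp hq i
        show ((p.2 * q.2 : (Matrix ι ι (ZMod 3))ˣ) : Matrix ι ι (ZMod 3)) * g i = _
        rw [Units.val_mul, mul_assoc, hq i, ← mul_assoc, hp, mul_assoc]
        simp
      inv_mem' := by
        intro p hp i
        have h := hp ((p.1 : Equiv.Perm (Fin 8))⁻¹ i)
        rw [Equiv.Perm.inv_def, Equiv.apply_symm_apply, ← Equiv.Perm.inv_def] at h
        show ((p.2⁻¹ : (Matrix ι ι (ZMod 3))ˣ) : Matrix ι ι (ZMod 3)) * g i = _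
        rw [Units.inv_mul_eq_iff_eq_mul, ← mul_assoc]
        show g i = (p.2 : Matrix ι ι (ZMod 3)) * g ((p.1 : Equiv.Perm (Fin 8))⁻¹ i) *
          ((p.2⁻¹ : (Matrix ι ι (ZMod 3))ˣ) : Matrix ι ι (ZMod 3))
        rw [h, mul_assoc, Units.mul_inv, mul_one] }
  let π : S →* alternatingGroup (Fin 8) := (MonoidHom.fst _ _).comp S.subtype
  have hsurj : Function.Surjective π := by
    intro σ
    obtain ⟨M, hM⟩ := hlift σ
    refine ⟨⟨(σ, M), fun i => ?_⟩, rfl⟩
    rw [hM i, Equiv.Perm.mem_alternatingGroup.1 σ.2]; simp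
  have hone : ∀ p : S, π p = 1 → ((p.1.2 : Matrix ι ι (ZMod 3)) = 1 ∨
      (p.1.2 : Matrix ι ι (ZMod 3)) = -1) := by
    intro p hp
    obtain ⟨c, hc⟩ := hcomm (p.1.2 : Matrix ι ι (ZMod 3)) fun i => by
      have := p.2 i
      rw [show p.1.1 = 1 from hp] at this
      simpa using this
    have hc0 : c ≠ 0 := by
      intro h0
      rw [h0, zero_smul] at hc
      have h1 := p.1.2.mul_inv
      rw [hc, zero_mul] at h1
      obtain ⟨x⟩ := i3
      exact zero_ne_one (α := ZMod 3) (by simpa using congrFun (congrFun h1 x) x)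
    rcases (show ∀ c : ZMod 3, c ≠ 0 → c = 1 ∨ c = -1 by decide) c hc0 with rfl | rfl
    · exact Or.inl (by rw [hc, one_smul])
    · exact Or.inr (by rw [hc, neg_one_smul])
  let z : S := ⟨(1, -1), fun i => by simp⟩
  have hz1 : z ≠ 1 := by
    intro h
    have h1 : ((-1 : (Matrix ι ι (ZMod 3))ˣ) : Matrix ι ι (ZMod 3)) = 1 :=
      congrArg (fun q : S => (q.1.2 : Matrix ι ι (ZMod 3))) h
    obtain ⟨x⟩ := i3
    have h2 := congrFun (congrFun h1 x) x
    simp at h2
    exact absurd h2 (by decide)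
  have hcenter : ∀ p : S, p ∈ Subgroup.center S ↔ π p = 1 := by
    intro p
    constructor
    · intro hp
      have h1 : π p ∈ Subgroup.center (alternatingGroup (Fin 8)) :=
        Subgroup.mem_center_iff.2 fun q => by
          obtain ⟨q, rfl⟩ := hsurj q
          rw [← map_mul, ← map_mul, Subgroup.mem_center_iff.1 hp q]
      have h8 : Nat.card (Fin 8) = 8 := Nat.card_fin 8
      rwa [alternatingGroup.center_eq_bot (by omega), Subgroup.mem_bot] at h1
    · intro hp
      refine Subgroup.mem_center_iff.2 fun q => Subtype.ext (Prod.ext ?_ (Units.ext ?_))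
      · show q.1.1 * p.1.1 = p.1.1 * q.1.1
        rw [show p.1.1 = 1 from hp, one_mul, mul_one]
      · show (q.1.2 : Matrix ι ι (ZMod 3)) * p.1.2 = p.1.2 * q.1.2
        rcases hone p hp with h | h <;> rw [h] <;> simp
  have hmemc : ∀ p : S, p ∈ Subgroup.center S → p = 1 ∨ p = z := by
    intro p hp
    have h1 := (hcenter p).1 hp
    rcases hone p h1 with h | h
    · exact Or.inl (Subtype.ext (Prod.ext h1 (Units.ext h)))
    · exact Or.inr (Subtype.ext (Prod.ext h1 (Units.ext (by simpa [z] using h))))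
  have hzc : z ∈ Subgroup.center S := (hcenter z).2 rfl
  -- lifts of products of two disjoint transpositions
  have hpair : ∀ a b c d : Fin 8, a ≠ b → c ≠ d → a ≠ c → a ≠ d → b ≠ c → b ≠ d → ∃ p : S,
      (p.1.1 : Equiv.Perm (Fin 8)) = Equiv.swap a b * Equiv.swap c d ∧
      (p.1.2 : Matrix ι ι (ZMod 3)) = (g a - g b) * (g c - g d) ∧
      ((g a - g b) * (g c - g d)) * ((g a - g b) * (g c - g d)) = -1 := by
    intro a b c d hab hcd hac had hbc hbd
    have hsq' : ∀ x y : Fin 8, x ≠ y → (g x - g y) * (g x - g y) = -1 := by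
      intro x y hxy
      rw [show (g x - g y) * (g x - g y) = g x * g x + g y * g y - (g x * g y + g y * g x) by
        noncomm_ring, hanti x y hxy, neg_add_cancel, hsq, hsq, sub_zero, ← sub_eq_zero]
      ext i j
      simp only [Matrix.add_apply, Matrix.sub_apply, Matrix.neg_apply, Matrix.zero_apply]
      generalize (1 : Matrix ι ι (ZMod 3)) i j = x; revert x; decide
    have hac' : (g c - g d) * (g a - g b) = -((g a - g b) * (g c - g d)) := by
      simp only [mul_sub, sub_mul, hanti c a hac.symm, hanti c b hbc.symm, hanti d a had.symm,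
        hanti d b hbd.symm]
      abel
    have hW : ((g a - g b) * (g c - g d)) * ((g a - g b) * (g c - g d)) = -1 := by
      rw [mul_assoc, ← mul_assoc (g c - g d), hac', neg_mul, mul_assoc, hsq' c d hcd,
        mul_neg_one, neg_neg, hsq' a b hab]
    have hu : ∀ x y : Fin 8, x ≠ y → ∀ i,
        (g x - g y) * g i = -(g (Equiv.swap x y i) * (g x - g y)) := by
      intro a b hab i
      rcases eq_or_ne i a with rfl | hia
      · rw [Equiv.swap_apply_left, sub_mul, mul_sub, hsq, hsq, neg_sub]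
      rcases eq_or_ne i b with rfl | hib
      · rw [Equiv.swap_apply_right, sub_mul, mul_sub, hsq, hsq, neg_sub]
      rw [Equiv.swap_apply_of_ne_of_ne hia hib, sub_mul, mul_sub,
        hanti a i (Ne.symm hia), hanti b i (Ne.symm hib)]
      abel
    refine ⟨⟨(⟨Equiv.swap a b * Equiv.swap c d, ?_⟩,
      ⟨(g a - g b) * (g c - g d), -((g a - g b) * (g c - g d)), by rw [mul_neg, hW, neg_neg],
        by rw [neg_mul, hW, neg_neg]⟩), fun i => ?_⟩, rfl, rfl, hW⟩
    · rw [Equiv.Perm.mem_alternatingGroup, map_mul, Equiv.Perm.sign_swap hab,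
        Equiv.Perm.sign_swap hcd]
      rfl
    · show (g a - g b) * (g c - g d) * g i =
        g ((Equiv.swap a b * Equiv.swap c d) i) * ((g a - g b) * (g c - g d))
      rw [mul_assoc, hu c d hcd, mul_neg, ← mul_assoc, hu a b hab, neg_mul, neg_neg, mul_assoc]
      rfl
  obtain ⟨h1, h1p, h1m, h1q⟩ := hpair 0 1 2 3 (by decide) (by decide) (by decide) (by decide)
    (by decide) (by decide)
  obtain ⟨h2, h2p, h2m, h2q⟩ := hpair 4 5 6 7 (by decide) (by decide) (by decide) (by decide)
    (by decide) (by decide)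
  have hzz : z * z = 1 := Subtype.ext (Prod.ext (one_mul _) (Units.ext (by simp [z])))
  have hh1 : h1 * h1 = z := by
    refine Subtype.ext (Prod.ext (Subtype.ext ?_) (Units.ext ?_))
    · show (h1.1.1 : Equiv.Perm (Fin 8)) * h1.1.1 = 1
      rw [h1p]; decide
    · show (h1.1.2 : Matrix ι ι (ZMod 3)) * h1.1.2 = _
      rw [h1m, h1q]; simp [z]
  refine ⟨S, inferInstance, inferInstance, ⟨?_, ?_, ?_⟩, z, h1 * h2, ?_, ?_, ?_⟩
  · rw [Nat.card_eq_two_iff]
    refine ⟨1, ⟨z, hzc⟩, fun h => hz1 (congrArg Subtype.val h).symm, Set.eq_univ_of_forall fun p => ?_⟩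
    rcases hmemc p p.2 with h | h
    · exact Or.inl (Subtype.ext h)
    · exact Or.inr (Subtype.ext h)
  · exact ⟨(QuotientGroup.quotientMulEquivOfEq (Subgroup.ext fun p => hcenter p :
      Subgroup.center S = π.ker)).trans
      (QuotientGroup.quotientKerEquivOfSurjective π hsurj)⟩
  · intro L hL
    have hmem : h1 * h1 ∈ L := by
      obtain ⟨⟨⟨w, hw⟩, ⟨l, hl⟩⟩, he⟩ := hL.2 h1
      simp only at he
      have hc : Commute w l := (Subgroup.mem_center_iff.1 hw l).symm
      have hw2 : w * w = 1 := by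
        rcases hmemc w hw with h | h
        · rw [h, one_mul]
        · rw [h, hzz]
      rw [← he, hc.symm.mul_mul_mul_comm, hw2, one_mul]
      exact mul_mem hl hl
    rw [hh1] at hmem
    exact hz1 (Subgroup.disjoint_def.1 hL.disjoint hzc hmem)
  · intro h
    have h3 := congrArg (fun q : S => (q.1.1 : Equiv.Perm (Fin 8)) 0) h
    simp only [z, Subgroup.coe_mul, Prod.fst_mul, OneMemClass.coe_one, h1p, h2p] at h3
    revert h3; decide
  · exact orderOf_eq_prime (by rw [pow_two]; exact hzz) hz1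
  · refine orderOf_eq_prime ?_ ?_
    · rw [pow_two]
      refine Subtype.ext (Prod.ext (Subtype.ext ?_) (Units.ext ?_))
      · show ((h1.1.1 : Equiv.Perm (Fin 8)) * h2.1.1) * (h1.1.1 * h2.1.1) = 1
        rw [h1p, h2p]; decide
      · show ((h1.1.2 : Matrix ι ι (ZMod 3)) * h2.1.2) * (h1.1.2 * h2.1.2) = 1
        rw [h1m, h2m]
        have hcom : Commute ((g 4 - g 5) * (g 6 - g 7)) ((g 0 - g 1) * (g 2 - g 3)) := by
          have k : ∀ x y u v : Fin 8, x ≠ u → x ≠ v → y ≠ u → y ≠ v →
              (g x - g y) * (g u - g v) = -((g u - g v) * (g x - g y)) := by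
            intro x y u v a1 a2 a3 a4
            simp only [mul_sub, sub_mul, hanti x u a1, hanti x v a2, hanti y u a3, hanti y v a4]
            abel
          have k1 := k 4 5 0 1 (by decide) (by decide) (by decide) (by decide)
          have k2 := k 4 5 2 3 (by decide) (by decide) (by decide) (by decide)
          have k3 := k 6 7 0 1 (by decide) (by decide) (by decide) (by decide)
          have k4 := k 6 7 2 3 (by decide) (by decide) (by decide) (by decide)
          generalize g 4 - g 5 = p at k1 k2 ⊢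
          generalize g 6 - g 7 = q at k3 k4 ⊢
          generalize g 0 - g 1 = r at k1 k3 ⊢
          generalize g 2 - g 3 = t at k2 k4 ⊢
          show p * q * (r * t) = r * t * (p * q)
          rw [mul_assoc p q, ← mul_assoc q r t, k3, neg_mul, mul_neg, mul_assoc r q t, k4, mul_neg,
            mul_neg, neg_neg, ← mul_assoc p r, k1, neg_mul, mul_assoc r p, ← mul_assoc p t q, k2,
            neg_mul, mul_neg, neg_neg, mul_assoc r t, mul_assoc t p q]
        rw [hcom.mul_mul_mul_comm, h1q, h2q, neg_one_mul, neg_neg]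
    · intro h
      have h3 := congrArg (fun q : S => (q.1.1 : Equiv.Perm (Fin 8)) 0) h
      simp only [Subgroup.coe_mul, Prod.fst_mul, OneMemClass.coe_one, Prod.fst_one, h1p, h2p] at h3
      revert h3; decide

end CfsgLib.DoubleCover
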